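import Cfsg.Agent.Omega.KL.StarX.Odd

/-!
# THEOREM KL* with foreign minimal parabolics (bb #24309 (alpha))

`H` acts on the elementary abelian 2-group `M` (not necessarily faithfully), `T` is a Sylow 2-subgroup, `Z ≤ C_M(T)`,
`N_H(T)` normalises `Y`, the `T`-fixed vectors of `Y` are fixed by `H`; `A` is an exact atom on `M`, `A ≰ O₂(H)`,
`A ≤ O₂(C_H(Y) T)`; `D ≤ H` contains `N_H(T)` and `A ≤ O₂(D)`.  For every `T`-minimal `P`

* either the elements of odd order of `P` centralise `Y` and `P` moves a vector of `Z`,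
* or `P ≤ D` and: `P` fixes `Z` pointwise, or `P` normalises `Y` (it may move `Z` and `Y`).

* `exists_of_mover` : the end of the machine over `LB`;
* `InpX T A D Z Y` : this situation;
* **`InpX.exists_sysT`** : (ML) gives `Two.SysT` for a section of `(H, M)`;  `InpX.false_of`.
-/

set_option autoImplicit false

namespace Cfsg.Agent.Omega.KL.StarX

open Subgroup Cfsg Cfsg.Agent.ZN Cfsg.Agent.ClassTwoFusion.Quad
open Cfsg.Agent.Omega.ML.MinFrame hiding comm_of_sq
open Cfsg.Agent.Omega.ML.Final Cfsg.Agent.Omega.NO3S.EMany.Low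
open Cfsg.Agent.Omega.KL.Star.Core
open Cfsg.Agent.MinSimple.VModule (o2_isPGroup o2_le le_o2 le_normalizer_o2 o2_le_of_sylow oddGen oddGen_le oddGen_def
  le_normalizer_oddGen)
open Cfsg.Agent.MinSimple.MinParabolic (IsMinPar le_of_forall)
open Cfsg.Agent.Omega.ML.Ex.Two (SysT RedT ExitN LieT UThreeT)

universe u v

section

variable {H : Type u} [Group H] [Finite H] {M : Type v} [Group M] [Finite M] [MulDistribMulAction H M]
  {T A : Subgroup H}

/-- `g ∈ P` of odd order outside `T` modulo the kernel -/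
theorem exists_odd {H' : Type u} [Group H'] (π : H →* H') (hsyl : ¬ 2 ∣ T.index) {P : Subgroup H} (hTP : T ≤ P) (hP : ¬ P.map π ≤ T.map π) : ∃ g ∈ P, Odd (orderOf g) ∧ π g ≠ 1 := by
  by_contra hc
  push Not at hc
  apply hP
  have h3 : oddGen P ⊔ T = P := oddGen_sup hTP fun h2 => hsyl (h2.trans (relIndex_dvd_index_of_le hTP))
  rw [← h3, Subgroup.map_sup]
  refine sup_le ?_ le_rfl
  rw [map_le_iff_le_comap, oddGen_def, closure_le]
  rintro g ⟨hgP, hgo⟩
  change π g ∈ T.map π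
  rw [hc g hgP hgo]
  exact one_mem _

/-- **the end over `LB`**: one mover, no fixed vectors for the other minimal parabolics -/
theorem exists_of_mover (h : LB H M T A) (hM : MLK.{u, v}) {x : M} (tx : ∀ t ∈ T, t • x = x)
    {Y : Subgroup M} (NY : ∀ g ∈ normalizer (T : Set H), ∀ w ∈ Y, g • w ∈ Y)
    (cY : ∀ w ∈ Y, (∀ t ∈ T, t • w = w) → ∀ g : H, g • w = w)
    (hY : ¬ ∀ g : H, Odd (orderOf g) → ∀ w ∈ Y, g • w = w)
    (par : ∀ P : Subgroup H, IsMinPar T P → (∀ g ∈ P, Odd (orderOf g) → ∀ w ∈ Y, g • w = w) ∨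
      A ≤ o2 P ∧ ((∀ p ∈ P, p • x = x) ∨ ∀ p ∈ P, ∀ w ∈ Y, p • w ∈ Y))
    (mv : ∃ P : Subgroup H, IsMinPar T P ∧ (∀ g ∈ P, Odd (orderOf g) → ∀ w ∈ Y, g • w = w) ∧ ∃ p ∈ P, p • x ≠ x) :
    ∃ (H' : Type u) (_ : Group H') (_ : Finite H') (N : Type v) (_ : Group N) (_ : Finite N)
      (_ : MulDistribMulAction H' N) (T' A' : Subgroup H') (x' y' : N), SysT H' N T' A' x' y' := by
  have hx : ¬ ∀ g : H, g • x = x := by
    obtain ⟨P, -, -, p, -, hp⟩ := mv
    exact fun hc => hp (hc p)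
  have TY : ∀ t ∈ T, ∀ w ∈ Y, t • w ∈ Y := fun t ht => NY t (le_normalizer ht)
  obtain ⟨N, i1, i2, i3, A', x', u', c⟩ := core h hM tx hx TY hY
  -- block type
  have hPu0 : ∀ P : Subgroup H, T ≤ P → (∀ g ∈ P, Odd (orderOf g) → ∀ w ∈ Y, g • w = w) → ∀ p ∈ P, p • u' = u' := by
    intro P hTP hP
    have h3 : oddGen P ⊔ T = P := oddGen_sup hTP fun h2 => h.syl (h2.trans (relIndex_dvd_index_of_le hTP))
    have h4 : P ≤ MulAction.stabilizer H u' := by
      rw [← h3]
      refine sup_le ?_ fun t ht => c.tu t ht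
      rw [oddGen_def, closure_le]
      rintro g ⟨hgP, hgo⟩
      exact c.su g hgo fun w hw => hP g hgP hgo w hw
    exact fun p hp => h4 hp
  obtain ⟨P, hPm, hPY, p, hp, hpx⟩ := mv
  have hPx' : ∃ p ∈ P, p • x' ≠ x' := by
    by_contra hc
    push Not at hc
    exact hpx ((c.sx P hPm.le).1 hc p hp)
  have hPu : ∀ p ∈ P, p • u' = u' := hPu0 P hPm.le hPY
  -- shift
  obtain ⟨x1, hx1, hxs⟩ := c.lb.shift c.tx
  obtain ⟨u1, hu1, hus⟩ := c.lb.shift c.tu
  have tx1 : ∀ t ∈ T, t • x1 = x1 := fun t ht => (hxs t).2 (c.tx t ht)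
  have tu1 : ∀ t ∈ T, t • u1 = u1 := fun t ht => (hus t).2 (c.tu t ht)
  have mx1 : ¬ ∀ g : H, g • x1 = x1 := fun hc => c.mx fun g => (hxs g).1 (hc g)
  have mu1 : ¬ ∀ g : H, g • u1 = u1 := fun hc => c.mu fun g => (hus g).1 (hc g)
  obtain ⟨H', _, _, N', _, _, _, π, f, B, o⟩ := c.lb.exists_out hM tx1 mx1 hx1
  -- images of vectors
  have him : ∀ {m : N} (hm : m ∈ cmm N A') {g : H}, g • m = m → π g • f ⟨m, hm⟩ = f ⟨m, hm⟩ := by
    intro m hm g hg
    rw [← o.eqv g ⟨m, hm⟩]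
    exact congrArg f (Subtype.ext hg)
  have hne : ∀ {m : N} (hm : m ∈ cmm N A'), (∀ t ∈ T, t • m = m) → (¬ ∀ g : H, g • m = m) → f ⟨m, hm⟩ ≠ 1 := by
    intro m hm tm hc h1
    exact hc fun g => c.lb.fix_of_cvKm tm ((o.ker _).1 h1) g
  have hback : ∀ {m : N} (hm : m ∈ cmm N A'), (∀ t ∈ T, t • m = m) → ∀ R : Subgroup H, T ≤ R →
      (∀ g ∈ R, π g • f ⟨m, hm⟩ = f ⟨m, hm⟩) → ∀ g ∈ R, g • m = m := by
    intro m hm tm R hTR hR
    refine c.lb.fix_of_mod tm hTR (I := cv N (Km A' : Set H)) (fun w hw tw g _ => c.lb.fix_of_cvKm tw hw g)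
      fun g hg => ?_
    have h1 := hR g hg
    rw [← o.eqv g ⟨m, hm⟩, ← mul_inv_eq_one, ← map_inv, ← map_mul, o.ker] at h1
    exact h1
  set X : N' := f ⟨x1, hx1⟩ with hX
  set V : N' := f ⟨u1, hu1⟩ with hV
  have x1' : X ≠ 1 := hne hx1 tx1 mx1
  have y1' : V ≠ 1 := hne hu1 tu1 mu1
  have htx : ∀ t ∈ T.map π, t • X = X := by
    rintro _ ⟨t, ht, rfl⟩
    exact him hx1 (tx1 t ht)
  have hty : ∀ t ∈ T.map π, t • V = V := by
    rintro _ ⟨t, ht, rfl⟩
    exact him hu1 (tu1 t ht)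
  have hmv : ∃ R : Subgroup H', T.map π ≤ R ∧ (∀ r ∈ R, r • V = V) ∧ ∃ r ∈ R, r • X ≠ X := by
    refine ⟨P.map π, map_mono hPm.le, ?_, ?_⟩
    · rintro _ ⟨q, hq, rfl⟩
      exact him hu1 ((hus q).2 (hPu q hq))
    · by_contra hc
      push Not at hc
      obtain ⟨q, hq, hqx⟩ := hPx'
      exact hqx ((hxs q).1 (hback hx1 tx1 P hPm.le (fun g hg => hc _ ⟨g, hg, rfl⟩) q hq))
  have hxy : X ≠ V := by
    intro he
    obtain ⟨R, -, hR1, r, hr, hrx⟩ := hmv
    rw [he] at hrx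
    exact hrx (hR1 r hr)
  -- fixed vectors of normal subgroups
  have hnor1 : ∀ K : Subgroup H', K.Normal → ∀ m : N', m ≠ 1 → (∀ k ∈ K, k • m = m) → K = ⊥ := by
    intro K hK m hm hc
    have h1 : cv N' (K : Set H') = ⊤ := by
      refine (o.irr _ ?_).resolve_left ?_
      · intro g w hw k hk
        have h2 := hw (g⁻¹ * k * g) (by
          have := hK.conj_mem k hk g⁻¹
          rwa [inv_inv] at this)
        rwa [mul_smul, mul_smul, inv_smul_eq_iff] at h2
      · intro h2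
        have h3 : m ∈ cv N' (K : Set H') := fun g hg => hc g hg
        rw [h2, mem_bot] at h3
        exact hm h3
    rw [eq_bot_iff]
    intro k hk
    exact mem_bot.2 (o.faith k fun w => (h1 ▸ mem_top w : w ∈ cv N' (K : Set H')) k hk)
  have hAB : B ≤ A.map π := o.AB.trans (map_mono c.le)
  -- no maximal overgroup
  have hnmax : ¬ ∃ K : Subgroup H', K ≠ ⊤ ∧ ∀ R : Subgroup H', T.map π ≤ R → R ≠ ⊤ → R ≤ K := by
    rintro ⟨L, hL, hLm⟩
    by_cases hn : (⊤ : Subgroup H') ≤ normalizer ((T.map π : Subgroup H') : Set H')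
    · exact o.lb.nb (o.lb.BT.trans (le_o2 le_top o.lb.two hn))
    · obtain ⟨Q, hQ, hQt⟩ := KL.GenTool.exists_minPar_map π o.πs
        (⟨le_top, hn, L, lt_top_iff_ne_top.2 hL, fun K hK hlt => hLm K hK hlt.ne⟩ : IsMinPar (T.map π) ⊤)
      have hAQ : ¬ A ≤ o2 Q := by
        intro hA
        apply o.lb.nb
        refine hAB.trans ((map_mono hA).trans ?_)
        have := KL.GenTool.o2_map_le π Q
        rwa [hQt] at this
      have hQ1 : Q = ⊤ := by
        by_contra hne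
        exact hAQ (h.low Q hQ.le hne)
      rcases par Q hQ with h1 | ⟨h1, -⟩
      · exact hY fun g hg w hw => h1 g (hQ1 ▸ mem_top g) hg w hw
      · exact hAQ h1
  -- the kernel of `π` acts trivially on `[M, K₀]`
  have hkx' : ∀ k ∈ π.ker ⊔ T, k • x1 = x1 := by
    refine c.lb.fix_of_mod tx1 le_sup_right (I := cv N (Km A' : Set H))
      (fun w hw tw g _ => c.lb.fix_of_cvKm tw hw g) fun k hk => ?_
    have h1 : π k • f ⟨x1, hx1⟩ = f ⟨x1, hx1⟩ := by
      obtain ⟨k1, hk1, s, hs', rfl⟩ := mem_sup_of_normal_left.1 hk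
      rw [map_mul, (MonoidHom.mem_ker).1 hk1, one_mul, ← o.eqv s ⟨x1, hx1⟩]
      exact congrArg f (Subtype.ext (tx1 s hs'))
    rw [← o.eqv k ⟨x1, hx1⟩, ← mul_inv_eq_one, ← map_inv, ← map_mul, o.ker] at h1
    exact h1
  have hkx : ∀ k ∈ π.ker, k • x = x := by
    have h1 : ∀ k ∈ π.ker ⊔ T, k • x' = x' := fun k hk => (hxs k).1 (hkx' k hk)
    exact fun k hk => (c.sx _ le_sup_right).1 h1 k (mem_sup_left hk)
  have hkU : ∀ k ∈ π.ker, ∀ w ∈ cmm M A, k • w = w := by
    intro k hk w hw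
    have h1 : k ∈ fxr H (orb (⊤ : Subgroup H) x) := by
      rw [mem_fxr_orb]
      intro s _
      have h2 := hkx (s⁻¹ * k * s) (by
        have := (inferInstance : (π.ker).Normal).conj_mem k hk s⁻¹
        rwa [inv_inv] at this)
      rwa [mul_smul, mul_smul, inv_smul_eq_iff] at h2
    exact h1 w (h.cmm_le hM tx hx hw)
  refine ⟨H', inferInstance, inferInstance, N', inferInstance, inferInstance, inferInstance, T.map π, B, X, V,
    ⟨⟨x1', y1', htx, hty, hmv⟩, o.lb.sq, o.faith, o.irr, o.lb.two, o.lb.syl, o.lb.BT, o.lb.el,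
    four_le o.lb.sq o.faith o.irr o.lb htx hty x1' y1' hxy, o.lb.exact, o.lb.atom, o.lb.low, hnmax, ?_, o.lb.KH⟩⟩
  -- odd normal subgroups
  intro K hK hKo
  obtain ⟨hKT, hKc⟩ := odd_cen o.lb hnmax hK hKo
  by_contra hne
  -- `K` acts freely on the `T`-fixed vectors
  have hfree : ∀ m : N', m ≠ 1 → (∀ t ∈ T.map π, t • m = m) → ∀ k ∈ K, k • m = m → k = 1 := by
    intro m hm tm k hk hkm
    let F : Subgroup H' := K ⊓ MulAction.stabilizer H' m
    have hF : F.Normal := by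
      rw [← normalizer_eq_top_iff, eq_top_iff, ← o.lb.gen]
      refine sup_le ?_ ?_
      · intro g hg
        have h1 : g ∈ centralizer (F : Set H') := by
          rw [mem_centralizer_iff]
          intro z hz
          exact mem_centralizer_iff.1 (hKc hg) z hz.1
        exact centralizer_le_normalizer _ h1
      · have hconj : ∀ t ∈ T.map π, ∀ z ∈ F, t * z * t⁻¹ ∈ F := by
          intro t ht z hz
          refine mem_inf.2 ⟨hK.conj_mem z hz.1 t, MulAction.mem_stabilizer_iff.2 ?_⟩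
          rw [mul_smul, mul_smul, tm t⁻¹ (inv_mem ht), MulAction.mem_stabilizer_iff.1 (mem_inf.1 hz).2, tm t ht]
        intro t ht
        rw [mem_normalizer_iff]
        intro z
        refine ⟨hconj t ht z, fun hz => ?_⟩
        have h1 := hconj t⁻¹ (inv_mem ht) _ hz
        have e : t⁻¹ * (t * z * t⁻¹) * t⁻¹⁻¹ = z := by group
        rwa [e] at h1
    have h1 : F = ⊥ := hnor1 F hF m hm fun k hk => hk.2
    have h2 : k ∈ F := ⟨hk, hkm⟩
    rw [h1] at h2
    exact mem_bot.1 h2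
  -- the key
  have hkey : ∀ Q : Subgroup H, T ≤ Q → Q.map π ≤ K ⊔ T.map π → ¬ Q.map π ≤ T.map π →
      ((∀ g ∈ Q, Odd (orderOf g) → ∀ w ∈ Y, g • w = w) ∨ (∀ p ∈ Q, p • x = x) ∨ ∀ p ∈ Q, ∀ w ∈ Y, p • w ∈ Y) →
      False := by
    intro Q hTQ hQK hQT hQ
    obtain ⟨g, hgQ, hgo, hg1⟩ := exists_odd π h.syl hTQ hQT
    -- elements of odd order map to `K`
    have hoK : ∀ k ∈ Q, Odd (orderOf k) → π k ∈ K := by
      intro k hk hko
      have h1 : π k ∈ K ⊔ T.map π := hQK ⟨k, hk, rfl⟩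
      have h2 : K.subgroupOf (K ⊔ T.map π) ⊔ (T.map π).subgroupOf (K ⊔ T.map π) = ⊤ := by
        rw [← subgroupOf_sup le_sup_left le_sup_right, subgroupOf_self]
      have h3 : (K.subgroupOf (K ⊔ T.map π)).Normal := hK.subgroupOf _
      have h4 := mem_of_odd (K := K.subgroupOf (K ⊔ T.map π)) (T := (T.map π).subgroupOf (K ⊔ T.map π))
        o.lb.two.comap_subtype h2 (g := ⟨π k, h1⟩) (by
          rw [orderOf_mk]
          exact hko.of_dvd_nat (orderOf_map_dvd π k))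
      exact h4
    have hsub : g • u' = u' ∨ g • x' = x' := by
      rcases hQ with h1 | h1 | h1
      · exact Or.inl (c.su g hgo (h1 g hgQ hgo))
      · exact Or.inr ((c.sx Q hTQ).2 h1 g hgQ)
      · left
        refine c.su g hgo ?_
        have hOQ : oddGen Q ≤ Q := oddGen_le Q
        have hOK : (oddGen Q).map π ≤ K := by
          rw [map_le_iff_le_comap, oddGen_def, closure_le]
          rintro k ⟨hk, hko⟩
          exact hoK k hk hko
        have hOKm : oddGen Q ≤ Km A := by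
          rw [oddGen_def, closure_le]
          rintro k ⟨hk, hko⟩
          exact mem_of_odd h.two h.gen hko
        refine com_of h.sq h.two π (O := oddGen Q) (hKo.of_dvd_nat (card_dvd_of_le hOK))
          (hTQ.trans (le_normalizer_oddGen Q)) (U := cmm M A) (fun k hk w hw => h1 k (hOQ hk) w hw) TY
          (fun k hk w _ => mem_cmm (hOKm hk) w) (fun g u hu => smul_mem_cmm g hu)
          (fun k _ hk1 u hu => hkU k (MonoidHom.mem_ker.2 hk1) u hu) (fun w hw tw k _ => cY w hw tw k) g ?_ hgo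
        rw [oddGen_def]
        exact subset_closure ⟨hgQ, hgo⟩
    rcases hsub with h1 | h1
    · exact hg1 (hfree V y1' hty _ (hoK g hgQ hgo) (him hu1 ((hus g).2 h1)))
    · exact hg1 (hfree X x1' htx _ (hoK g hgQ hgo) (him hx1 ((hxs g).2 h1)))
  by_cases hNT : K ⊔ T.map π ≤ normalizer ((T.map π : Subgroup H') : Set H')
  · -- `[K, T] = 1`
    refine hkey (normalizer (T : Set H) ⊓ (K ⊔ T.map π).comap π)
      (le_inf le_normalizer (map_le_iff_le_comap.1 le_sup_right)) ?_ ?_ (Or.inr (Or.inr fun p hp => NY p hp.1))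
    · rintro _ ⟨q, hq, rfl⟩
      exact hq.2
    · intro hc
      obtain ⟨⟨ν, hν⟩, hν1'⟩ := (Subgroup.ne_bot_iff_exists_ne_one).1 hne
      have hν1 : ν ≠ 1 := fun h1 => hν1' (Subtype.ext h1)
      obtain ⟨t, ht, n, hn, hνn⟩ := KL.GenTool.exists_normalizer_map π o.πs h.two h.syl (hNT (mem_sup_left hν))
      have h1 : π n = t⁻¹ * ν := by rw [hνn]; group
      have h2 : π n ∈ K ⊔ T.map π := by
        rw [h1]
        exact mul_mem (inv_mem (mem_sup_right ht)) (mem_sup_left hν)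
      have h3 : π n ∈ T.map π := hc ⟨n, ⟨hn, h2⟩, rfl⟩
      apply hν1
      refine eq_one_of_odd hKo o.lb.two hν ?_
      rw [hνn]
      exact mul_mem ht h3
  · -- a `T`-minimal `P' ≤ K T`
    obtain ⟨P', hP', hPK⟩ : ∃ P' : Subgroup H', IsMinPar (T.map π) P' ∧ P' ≤ K ⊔ T.map π := by
      by_contra hc
      push Not at hc
      exact hNT (le_of_forall le_sup_right inf_le_right fun P hP1 hP2 => (hc P hP1 hP2).elim)
    obtain ⟨Q, hQ, rfl⟩ := KL.GenTool.exists_minPar_map π o.πs hP'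
    refine hkey Q hQ.le hPK (fun hc => hP'.not_le (hc.trans le_normalizer)) ?_
    rcases par Q hQ with h1 | ⟨-, h1⟩
    · exact Or.inl h1
    · exact Or.inr h1

end

/-- **The input of THEOREM KL* with foreign minimal parabolics** -/
structure InpX {H : Type u} [Group H] {M : Type v} [Group M] [MulDistribMulAction H M] (T A D : Subgroup H)
    (Z Y : Subgroup M) : Prop where
  sq : ∀ m : M, m * m = 1
  two : IsPGroup 2 T
  syl : ¬ 2 ∣ T.index
  tZ : ∀ z ∈ Z, ∀ t ∈ T, t • z = z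
  NY : ∀ g ∈ normalizer (T : Set H), ∀ w ∈ Y, g • w ∈ Y
  /-- the `T`-fixed vectors of `Y` are fixed by `H` -/
  cY : ∀ w ∈ Y, (∀ t ∈ T, t • w = w) → ∀ g : H, g • w = w
  ND : normalizer (T : Set H) ≤ D
  AD : A ≤ o2 D
  /-- a `T`-minimal `P` moves `Z` and its elements of odd order centralise `Y`, or `P ≤ D` and `P` fixes `Z` pointwise
  or normalises `Y` -/
  par : ∀ P : Subgroup H, IsMinPar T P →
    ((∃ z ∈ Z, ∃ p ∈ P, p • z ≠ z) ∧ ∀ g ∈ P, Odd (orderOf g) → ∀ w ∈ Y, g • w = w) ∨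
    (P ≤ D ∧ ((∀ z ∈ Z, ∀ p ∈ P, p • z = z) ∨ ∀ p ∈ P, ∀ w ∈ Y, p • w ∈ Y))
  el : ∀ a ∈ A, a * a = 1
  exact : (cv M (A : Set H)).index = Nat.card A
  atom : ∀ C : Subgroup H, C ≤ A → C ≠ ⊥ → C ≠ A → Nat.card C < (cv M (C : Set H)).index
  nT : ¬ A ≤ o2 (⊤ : Subgroup H)
  AY : A ≤ o2 (fxr H Y ⊔ T)
  KH : IsKGroup H

namespace InpX

variable {H : Type u} [Group H] [Finite H] {M : Type v} [Group M] [Finite M] [MulDistribMulAction H M]
  {T A D : Subgroup H} {Z Y : Subgroup M}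

omit [Finite M] in
theorem AT (i : InpX T A D Z Y) : A ≤ T :=
  i.AD.trans (o2_le_of_sylow i.two fun h2 => i.syl (h2.trans (relIndex_dvd_index_of_le (le_normalizer.trans i.ND))))

/-- **THEOREM KL* with foreign minimal parabolics.** -/
theorem exists_sysT (i : InpX T A D Z Y) (hM : MLK.{u, v}) :
    ∃ (H' : Type u) (_ : Group H') (_ : Finite H') (N : Type v) (_ : Group N) (_ : Finite N)
      (_ : MulDistribMulAction H' N) (T' A' : Subgroup H') (x' y' : N), SysT H' N T' A' x' y' := by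
  -- `L` minimal
  obtain ⟨L, ⟨hTL, hAL⟩, hmin⟩ : ∃ L : Subgroup H, (T ≤ L ∧ ¬ A ≤ o2 L) ∧
      ∀ R : Subgroup H, (T ≤ R ∧ ¬ A ≤ o2 R) → R ≤ L → R = L := by
    have hfin : {L : Subgroup H | T ≤ L ∧ ¬ A ≤ o2 L}.Finite := Set.toFinite _
    obtain ⟨B, hB⟩ := hfin.exists_minimal ⟨⊤, le_top, i.nT⟩
    exact ⟨B, hB.1, fun C hC hCB => le_antisymm hCB (hB.2 hC hCB)⟩
  have hAT := i.AT
  have hAL' : A ≤ L := hAT.trans hTL
  have e1 : ∀ {C : Subgroup H}, C ≤ L → (C.subgroupOf L).map L.subtype = C := fun {C} hC => by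
    rw [subgroupOf_map_subtype, inf_eq_left.2 hC]
  have hcv : ∀ C : Subgroup L, cv M (C : Set L) = cv M ((C.map L.subtype : Subgroup H) : Set H) := by
    intro C
    ext m
    constructor
    · rintro hm _ ⟨c, hc, rfl⟩
      exact hm c hc
    · exact fun hm c hc => hm _ ⟨c, hc, rfl⟩
  have hcard : ∀ C : Subgroup L, Nat.card (C.map L.subtype) = Nat.card C := fun C =>
    card_map_of_injective L.subtype_injective
  have hlb : LB L M (T.subgroupOf L) (A.subgroupOf L) := by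
    refine ⟨i.sq, i.two.comap_subtype, fun h2 => ?_, fun x hx => hAT hx, fun b hb => Subtype.ext (i.el b hb), ?_, ?_, ?_, ?_,
      sec_KG.sub H i.KH L⟩
    · exact i.syl (h2.trans (relIndex_dvd_index_of_le hTL))
    · rw [hcv, e1 hAL', i.exact, ← hcard, e1 hAL']
    · intro C hC hC1 hCF
      rw [hcv, ← hcard]
      refine i.atom _ ?_ ?_ ?_
      · rintro _ ⟨c, hc, rfl⟩
        exact hC hc
      · intro h1
        exact hC1 ((Subgroup.map_eq_bot_iff_of_injective _ L.subtype_injective).1 h1)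
      · intro h1
        apply hCF
        rw [← h1]
        exact (comap_map_eq_self_of_injective L.subtype_injective C).symm
    · intro R hTR hR
      have h1 : R.map L.subtype ≠ L := by
        intro h2
        apply hR
        rw [eq_top_iff]
        intro r _
        have h3 : (r : H) ∈ R.map L.subtype := by
          rw [h2]
          exact r.2
        obtain ⟨s, hs, hsr⟩ := h3
        rwa [← (Subtype.ext hsr : s = r)]
      have h2 : T ≤ R.map L.subtype := fun t ht => ⟨⟨t, hTL ht⟩, hTR ht, rfl⟩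
      have h3 : A ≤ o2 (R.map L.subtype) := by
        by_contra hc
        exact h1 (hmin _ ⟨h2, hc⟩ (map_subtype_le R))
      exact fun x hx => KL.GenTool.o2_subgroupOf_le R (h3 hx)
    · intro hc
      apply hAL
      have h1 := (map_mono (f := L.subtype) hc).trans (KL.GenTool.o2_map_le L.subtype ⊤)
      rw [e1 hAL', ← MonoidHom.range_eq_map, L.range_subtype] at h1
      exact h1
  -- normalizers of `T`
  have hNN : ∀ g : L, g ∈ normalizer ((T.subgroupOf L : Subgroup L) : Set L) → (g : H) ∈ normalizer (T : Set H) := by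
    intro g hg
    rw [mem_normalizer_iff] at hg ⊢
    intro t
    constructor
    · intro ht
      exact (hg ⟨t, hTL ht⟩).1 ht
    · intro ht
      have h1 : t ∈ L := by
        have h2 := L.mul_mem (L.mul_mem (L.inv_mem g.2) (hTL ht)) g.2
        have e : (g : H)⁻¹ * (g * t * (g : H)⁻¹) * g = t := by group
        rwa [e] at h2
      exact (hg ⟨t, h1⟩).2 ht
  -- a `T`-minimal subgroup of `L` outside `D`
  obtain ⟨P, hPm, hPD⟩ : ∃ P : Subgroup L, IsMinPar (T.subgroupOf L) P ∧ ¬ P.map L.subtype ≤ D := by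
    by_contra hc
    push Not at hc
    apply hAL
    have h1 : (⊤ : Subgroup L) ≤ D.subgroupOf L := by
      refine le_of_forall (S := T.subgroupOf L) le_top (fun g hg => ?_) fun P hP _ p hp => ?_
      · rw [mem_subgroupOf]
        exact i.ND (hNN g hg.2)
      · rw [mem_subgroupOf]
        exact hc P hP ⟨p, hp, rfl⟩
    have h2 : L ≤ D := fun g hg => h1 (mem_top (⟨g, hg⟩ : L))
    exact (le_inf i.AD hAL').trans (InpG.o2_le_o2_of_le h2)
  obtain ⟨⟨x, hxZ, _, ⟨p, hp, rfl⟩, hpx⟩, hPY⟩ :=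
    (i.par _ (KL.GenTool.minPar_map_subtype hTL hPm)).resolve_right fun h1 => hPD h1.1
  have htx : ∀ t ∈ T.subgroupOf L, t • x = x := fun t ht => i.tZ x hxZ _ ht
  -- `L ≠ C_L(Y) T`
  have hY : ¬ ∀ g : L, Odd (orderOf g) → ∀ w ∈ Y, g • w = w := by
    intro hc
    apply hAL
    have h1 : oddGen L ⊔ T = L := oddGen_sup hTL fun h2 => i.syl (h2.trans (relIndex_dvd_index_of_le hTL))
    have h2 : L ≤ fxr H Y ⊔ T := by
      rw [← h1]
      refine sup_le_sup_right ?_ T
      rw [oddGen_def, closure_le]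
      rintro g ⟨hgL, hgo⟩ w hw
      exact hc ⟨g, hgL⟩ (by rwa [orderOf_mk]) w hw
    exact (le_inf i.AY hAL').trans (InpG.o2_le_o2_of_le h2)
  have hodd : ∀ R : Subgroup L, (∀ g ∈ R.map L.subtype, Odd (orderOf g) → ∀ w ∈ Y, g • w = w) →
      ∀ g ∈ R, Odd (orderOf g) → ∀ w ∈ Y, g • w = w := by
    intro R hR g hg hgo w hw
    refine hR _ ⟨g, hg, rfl⟩ ?_ w hw
    rwa [Subgroup.coe_subtype, orderOf_coe]
  refine exists_of_mover hlb hM htx (Y := Y) (fun g hg w hw => i.NY g (hNN g hg) w hw)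
    (fun w hw tw g => i.cY w hw (fun t ht => tw ⟨t, hTL ht⟩ ht) g) hY (fun R hR => ?_)
    ⟨P, hPm, hodd P hPY, p, hp, hpx⟩
  rcases i.par _ (KL.GenTool.minPar_map_subtype hTL hR) with h1 | ⟨h1, h2⟩
  · exact Or.inl (hodd R h1.2)
  · refine Or.inr ⟨fun a ha => ?_, ?_⟩
    · have h3 : T ≤ R.map L.subtype := (KL.GenTool.minPar_map_subtype hTL hR).le
      exact KL.GenTool.o2_subgroupOf_le R (mem_subgroupOf.2 (((le_inf i.AD (hAT.trans h3)).trans
        (InpG.o2_le_o2_of_le h1)) ha))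
    · rcases h2 with h2 | h2
      · exact Or.inl fun q hq => h2 x hxZ _ ⟨q, hq, rfl⟩
      · exact Or.inr fun q hq w hw => h2 _ ⟨q, hq, rfl⟩ w hw

/-- **THEOREM KL* with foreign minimal parabolics**, with EXT -/
theorem false_of (hM : MLK.{u, v}) (hE : ML.Ex.Two.Ext.{u, v}) (i : InpX T A D Z Y) : False := by
  obtain ⟨H', i1, i2, N, i3, i4, i5, T', A', x', y', h⟩ := i.exists_sysT hM
  exact hE H' N T' A' x' y' h

end InpX

end Cfsg.Agent.Omega.KL.StarX
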