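import Cfsg.Agent.Omega.KL.StarQ.Main

/-!
# Odd normal subgroups without fixed vectors for all minimal parabolics

* `odd_cen` : over `LB` with "no maximal overgroup", a normal subgroup `N` of odd order satisfies `N T ≠ H` and
  `[⟨A^H⟩, N] = 1`;
* `eq_one_of_norm` : `O` acts on `U` through a group of odd order, `w ∈ [U, O]` fixed by `O` is trivial;
* `com_of` : `T` normalises `O` and `Y`, `[Y, O] ≤ U`, `O` acts on `U` through a group of odd order, the `T`-fixed
  vectors of `Y` are fixed by `O`: then the elements of odd order of `O` centralise `Y`.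
-/

set_option autoImplicit false

namespace Cfsg.Agent.Omega.KL.StarX

open Subgroup Cfsg Cfsg.Agent.ZN Cfsg.Agent.ClassTwoFusion.Quad
open Cfsg.Agent.Omega.ML.MinFrame hiding comm_of_sq
open Cfsg.Agent.Omega.ML.Final Cfsg.Agent.Omega.NO3S.EMany.Low
open Cfsg.Agent.Omega.KL.Star.Core
open Cfsg.Agent.MinSimple.VModule (o2_isPGroup o2_le le_o2 le_normalizer_o2 o2_le_of_sylow oddGen oddGen_le oddGen_def)
open Cfsg.Agent.MinSimple.MinParabolic (IsMinPar le_of_forall)

universe u v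

section odd

variable {H : Type u} [Group H] [Finite H] {M : Type v} [Group M] [Finite M] [MulDistribMulAction H M]
  {T A : Subgroup H}

omit [Finite H] [Finite M] in
/-- a normal subgroup of odd order is centralised by `⟨A^H⟩` -/
theorem odd_cen (h : LB H M T A)
    (nmax : ¬ ∃ N : Subgroup H, N ≠ ⊤ ∧ ∀ R : Subgroup H, T ≤ R → R ≠ ⊤ → R ≤ N)
    {N : Subgroup H} (hN : N.Normal) (hNo : Odd (Nat.card N)) :
    N ⊔ T ≠ ⊤ ∧ Km A ≤ centralizer (N : Set H) := by
  by_cases hNT : N ⊔ T = ⊤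
  · -- `N T = H`
    exfalso
    let D : Subgroup H := N ⊓ centralizer {z : H | ∃ t ∈ T, ∃ a ∈ A, z = t * a * t⁻¹}
    have hDT : ∀ s ∈ T, ∀ d ∈ D, s * d * s⁻¹ ∈ D := by
      intro s hs d hd
      refine ⟨hN.conj_mem d hd.1 s, mem_centralizer_iff.2 ?_⟩
      rintro _ ⟨t, ht, a, ha, rfl⟩
      have h1 := mem_centralizer_iff.1 hd.2 _ ⟨s⁻¹ * t, mul_mem (inv_mem hs) ht, a, ha, rfl⟩
      have h2 := congrArg (fun w => s * w * s⁻¹) h1
      simp only [mul_inv_rev, inv_inv] at h2
      calc t * a * t⁻¹ * (s * d * s⁻¹) = s * (s⁻¹ * t * a * (t⁻¹ * s) * d) * s⁻¹ := by group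
        _ = s * (d * (s⁻¹ * t * a * (t⁻¹ * s))) * s⁻¹ := h2
        _ = s * d * s⁻¹ * (t * a * t⁻¹) := by group
    have hDn : T ≤ normalizer (D : Set H) := by
      intro s hs
      rw [mem_normalizer_iff]
      intro z
      refine ⟨hDT s hs z, fun hz => ?_⟩
      have h1 := hDT s⁻¹ (inv_mem hs) _ hz
      have h2 : s⁻¹ * (s * z * s⁻¹) * s⁻¹⁻¹ = z := by group
      rwa [h2] at h1
    refine nmax ⟨D ⊔ T, ?_, ?_⟩
    · intro htop
      -- `N` centralises all `T`-conjugates of `A`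
      have hcen : ∀ n ∈ N, ∀ t ∈ T, ∀ a ∈ A, t * a * t⁻¹ * n = n * (t * a * t⁻¹) := by
        intro e he t' ht' a ha
        have h2 : e ∈ ((D ⊔ T : Subgroup H) : Set H) := htop ▸ mem_top e
        rw [coe_mul_of_right_le_normalizer_left D T hDn] at h2
        obtain ⟨d, hd, t, ht, rfl⟩ := h2
        have h3 : t ∈ N := by
          have := N.mul_mem (N.inv_mem hd.1) he
          simpa using this
        have h4 : t = 1 := eq_one_of_odd hNo h.two h3 ht
        rw [h4]
        simp only [mul_one]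
        exact mem_centralizer_iff.1 hd.2 _ ⟨t', ht', a, ha, rfl⟩
      -- their closure is normal in `H`
      let K1 : Subgroup H := closure {z : H | ∃ t ∈ T, ∃ a ∈ A, z = t * a * t⁻¹}
      have hK1T : K1 ≤ T := by
        rw [closure_le]
        rintro _ ⟨t, ht, a, ha, rfl⟩
        exact T.mul_mem (T.mul_mem ht (h.BT ha)) (T.inv_mem ht)
      have hK1 : K1 ≤ o2 (⊤ : Subgroup H) := by
        refine le_o2 le_top (h.two.to_le hK1T) ?_
        rw [← hNT]
        refine sup_le ?_ ?_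
        · intro n hn
          have h1 : n ∈ centralizer (K1 : Set H) := by
            rw [centralizer_closure, mem_centralizer_iff]
            rintro _ ⟨t, ht, a, ha, rfl⟩
            exact hcen n hn t ht a ha
          exact centralizer_le_normalizer _ h1
        · have hconj : ∀ s ∈ T, ∀ k ∈ K1, s * k * s⁻¹ ∈ K1 := by
            intro s hs k hk
            have h1 : K1 ≤ K1.comap (MulAut.conj s).toMonoidHom := by
              rw [closure_le]
              rintro _ ⟨t, ht, a, ha, rfl⟩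
              refine subset_closure ⟨s * t, T.mul_mem hs ht, a, ha, ?_⟩
              change s * (t * a * t⁻¹) * s⁻¹ = _
              group
            exact h1 hk
          intro s hs
          rw [mem_normalizer_iff]
          intro z
          refine ⟨hconj s hs z, fun hz => ?_⟩
          have h1 := hconj s⁻¹ (inv_mem hs) _ hz
          have h2 : s⁻¹ * (s * z * s⁻¹) * s⁻¹⁻¹ = z := by group
          rwa [h2] at h1
      exact h.nb fun a ha => hK1 (subset_closure ⟨1, one_mem T, a, ha, by group⟩)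
    · intro R hTR hR
      have h1 : R ⊓ N ⊔ T = R := by
        apply le_antisymm (sup_le inf_le_left hTR)
        intro r hr
        have h1 : r ∈ N ⊔ T := hNT ▸ mem_top r
        rw [mem_sup_of_normal_left] at h1
        obtain ⟨n, hn, s, hs, rfl⟩ := h1
        refine mul_mem_sup ⟨?_, hn⟩ hs
        have := R.mul_mem hr (R.inv_mem (hTR hs))
        rwa [mul_inv_cancel_right] at this
      rw [← h1]
      refine sup_le_sup_right ?_ T
      intro e he
      refine ⟨he.2, mem_centralizer_iff.2 ?_⟩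
      rintro _ ⟨t, ht, a, ha, rfl⟩
      have h3 : t * a * t⁻¹ ∈ o2 R := (mem_normalizer_iff.1 (le_normalizer_o2 R (hTR ht)) a).1 (h.low R hTR hR ha)
      exact (comm_odd hN hNo he.2 he.1 h3).symm
  · exact ⟨hNT, Km_le inferInstance fun a ha => mem_centralizer_iff.2 fun n hn =>
      comm_odd hN hNo hn (mem_sup_left hn) (h.low _ le_sup_right hNT ha)⟩

end odd

section cop

variable {H : Type u} [Group H] [Finite H] {H' : Type u} [Group H'] [Finite H'] {M : Type v} [Group M] [Finite M]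
  [MulDistribMulAction H M]

omit [Finite H] [Finite M] in
/-- a vector fixed by `O` in `[U, O]` is trivial if `O` acts on `U` through a group of odd order -/
theorem eq_one_of_norm (sq : ∀ m : M, m * m = 1) (π : H →* H') {O : Subgroup H} (ho : Odd (Nat.card (O.map π)))
    {U : Subgroup M} (hk : ∀ k ∈ O, π k = 1 → ∀ u ∈ U, k • u = u) {w : M}
    (hw : w ∈ closure {w : M | ∃ k ∈ O, ∃ u ∈ U, w = (k • u) * u⁻¹}) (hf : ∀ k ∈ O, k • w = w) : w = 1 := by
  classical
  let _ : CommGroup M := { (inferInstance : Group M) with mul_comm := comm_of_sq sq }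
  have : Fintype (O.map π) := Fintype.ofFinite _
  -- a section
  have hs0 : ∀ h' : O.map π, ∃ k ∈ O, π k = h' := fun h' => by
    obtain ⟨k, hk, he⟩ := h'.2
    exact ⟨k, hk, he⟩
  choose s hsO hsπ using hs0
  -- the norm
  let ν : M →* M :=
    { toFun := fun m => ∏ k : O.map π, s k • m
      map_one' := by simp
      map_mul' := fun a b => by
        simp only [smul_mul']
        exact Finset.prod_mul_distrib }
  have hν : ∀ (k : H), k ∈ O → ∀ u ∈ U, ν (k • u) = ν u := by
    intro k hk1 u hu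
    change ∏ l : O.map π, s l • (k • u) = ∏ l : O.map π, s l • u
    refine Fintype.prod_equiv (Equiv.mulRight (⟨π k, mem_map_of_mem π hk1⟩ : O.map π)) _ _ fun l => ?_
    rw [Equiv.coe_mulRight]
    set l' := l * (⟨π k, mem_map_of_mem π hk1⟩ : O.map π) with hl'
    have h1 : (s l')⁻¹ * (s l * k) ∈ O := O.mul_mem (O.inv_mem (hsO _)) (O.mul_mem (hsO _) hk1)
    have h2 : π ((s l')⁻¹ * (s l * k)) = 1 := by
      rw [map_mul, map_inv, map_mul, hsπ, hsπ, hl']
      simp
    have h3 := hk _ h1 h2 u hu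
    rwa [mul_smul, inv_smul_eq_iff, mul_smul] at h3
  have h1 : ν w = 1 := by
    have h2 : closure {w : M | ∃ k ∈ O, ∃ u ∈ U, w = (k • u) * u⁻¹} ≤ ν.ker := by
      rw [closure_le]
      rintro _ ⟨k, hk, u, hu, rfl⟩
      change ν (k • u * u⁻¹) = 1
      rw [map_mul, map_inv, hν k hk u hu, mul_inv_cancel]
    exact h2 hw
  have h5 : ν w = w ^ Nat.card (O.map π) := by
    change ∏ l : O.map π, s l • w = _
    have h6 : ∀ l : O.map π, s l • w = w := fun l => hf _ (hsO l)
    simp only [h6]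
    rw [Finset.prod_const, Finset.card_univ, Nat.card_eq_fintype_card]
  rw [h1] at h5
  obtain ⟨k, hk⟩ := ho
  rw [hk, pow_succ, pow_mul, pow_two, sq, one_pow, one_mul] at h5
  exact h5.symm

/-- **coprime action** -/
theorem com_of (sq : ∀ m : M, m * m = 1) {T : Subgroup H} (hT : IsPGroup 2 T) (π : H →* H') {O : Subgroup H}
    (ho : Odd (Nat.card (O.map π))) (hTO : T ≤ normalizer (O : Set H)) {Y U : Subgroup M}
    (OY : ∀ k ∈ O, ∀ y ∈ Y, k • y ∈ Y) (TY : ∀ t ∈ T, ∀ y ∈ Y, t • y ∈ Y)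
    (OU : ∀ k ∈ O, ∀ y ∈ Y, (k • y) * y⁻¹ ∈ U) (Ui : ∀ g : H, ∀ u ∈ U, g • u ∈ U)
    (hk : ∀ k ∈ O, π k = 1 → ∀ u ∈ U, k • u = u)
    (cY : ∀ y ∈ Y, (∀ t ∈ T, t • y = y) → ∀ k ∈ O, k • y = y) : ∀ g ∈ O, Odd (orderOf g) → ∀ y ∈ Y, g • y = y := by
  classical
  have hcomm := comm_of_sq sq
  let W : Subgroup M := closure {w : M | ∃ k ∈ O, ∃ u ∈ Y ⊓ U, w = (k • u) * u⁻¹}
  have hWY : W ≤ Y ⊓ U := by
    rw [closure_le]
    rintro _ ⟨k, hk, y, hy, rfl⟩
    exact ⟨Y.mul_mem (OY k hk y hy.1) (Y.inv_mem hy.1), U.mul_mem (Ui k y hy.2) (U.inv_mem hy.2)⟩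
  have hTW : ∀ t ∈ T, ∀ w ∈ W, t • w ∈ W := by
    intro t ht w hw
    have h1 : W ≤ W.comap (MulDistribMulAction.toMonoidHom M t) := by
      rw [closure_le]
      rintro _ ⟨k, hk, y, hy, rfl⟩
      refine subset_closure ⟨t * k * t⁻¹, (mem_normalizer_iff.1 (hTO ht) k).1 hk, t • y, ⟨TY t ht y hy.1, Ui t y hy.2⟩, ?_⟩
      change t • ((k • y) * y⁻¹) = _
      rw [smul_mul', smul_inv', smul_smul, smul_smul]
      congr 2
      group
    exact h1 hw
  have hW : W = ⊥ := by
    by_contra hne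
    obtain ⟨w, hw, hw1, hwT⟩ := exists_fix sq hT hTW hne
    apply hw1
    exact eq_one_of_norm sq π ho (U := Y ⊓ U) (fun k hk1 hk2 u hu => hk k hk1 hk2 u hu.2) hw (cY w (hWY hw).1 hwT)
  intro g hg hgo y hy
  refine fix_of_odd sq hgo ?_
  have h1 : (g • y) * y⁻¹ ∈ Y ⊓ U := ⟨Y.mul_mem (OY g hg y hy) (Y.inv_mem hy), OU g hg y hy⟩
  have h2 : (g • ((g • y) * y⁻¹)) * ((g • y) * y⁻¹)⁻¹ ∈ W := subset_closure ⟨g, hg, _, h1, rfl⟩
  rw [hW, mem_bot] at h2
  exact mul_inv_eq_one.1 h2

end cop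

end Cfsg.Agent.Omega.KL.StarX
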